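import Cfsg.Agent.H610.KKL.Asm5
import Cfsg.Agent.H921.KKL.EJ
import Cfsg.Agent.H630.Ore.Co1.InA
import Cfsg.Agent.MonsterU.CoFrameF
import Cfsg.Agent.KFacts.Co1.YBig

/-!
# S4546, row `Co1` (helper264)

* 2A, 2C: the centralizer of the involution has a normal 2-subgroup of order `2 ^ 9`, `2 ^ 11`;
* 2B: the lifts to `Co0` of the elements of `D` have square `-1`, so any two of them anticommute; impossible for `a`, `b`, `b c`.
-/

set_option autoImplicit false

namespace Cfsg.Agent.H264.KKL

open Cfsg Subgroup Cfsg.Agent.H613.KKL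
open Cfsg.Agent.SporadicA.Co0Mono
open Cfsg.Agent.SporadicA.Co1Simple (allOne)
open Cfsg.Agent.CoOneType.SignFacts
open Cfsg.Agent.CoOneType.ClosingFacts (mk mk_mul mk_inv exists_mk mk_eq_one mk_eq)
open Cfsg.Agent.KFacts.Co1D4
open Cfsg.Agent.H630.Ore.Co1 (IsA IsD inv_cases)
open Cfsg.Agent.CoOneType.CoOneE (E pr centralizer_dodecad_le card_E)
open Cfsg.Agent.MonsterU.CoFrameF (F conj_mem_E comm_of_mem_E)

universe u

theorem exists_notMem {D : Subgroup Spor.Co1} (h8 : Nat.card D = 8) (s : Finset Spor.Co1) (hs : s.card < 8) :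
    ∃ d ∈ D, d ∉ s := by
  by_contra hcon
  push Not at hcon
  have h1 : Nat.card D ≤ Nat.card (s : Set Spor.Co1) :=
    Nat.card_mono (Finset.finite_toSet s) fun d hd => hcon d hd
  rw [h8, Nat.card_coe_set_eq, Set.ncard_coe_finset] at h1
  omega

theorem J_sq : signCo0 allOne * signCo0 allOne = 1 := signCo0_mul_self _

theorem J_comm (g : Co0) : g * signCo0 allOne = signCo0 allOne * g := sign_allOne_comm g

/-- lifts of elements of class 2B have square `-1` -/
theorem sq_of_B {d : Spor.Co1} (h : IsConj TwoB.w d) {t : Co0} (ht : mk t = d) : t * t = signCo0 allOne := by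
  obtain ⟨g, hg⟩ := isConj_iff.1 h
  obtain ⟨g, rfl⟩ := exists_mk g
  have h1 : mk t = mk (g * TwoB.k * g⁻¹) := by
    rw [ht, ← hg, mk_mul, mk_mul, mk_inv]
  have h2 : g * TwoB.k * g⁻¹ * (g * TwoB.k * g⁻¹) = signCo0 allOne := by
    calc g * TwoB.k * g⁻¹ * (g * TwoB.k * g⁻¹) = g * (TwoB.k * TwoB.k) * g⁻¹ := by group
      _ = signCo0 allOne := by rw [TwoB.k_sq, J_comm]; group
  rcases (mk_eq _ _).1 h1 with h3 | h3
  · rw [h3, h2]
  · rw [h3]
    calc g * TwoB.k * g⁻¹ * signCo0 allOne * (g * TwoB.k * g⁻¹ * signCo0 allOne)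
        = g * TwoB.k * g⁻¹ * (signCo0 allOne * (g * TwoB.k * g⁻¹)) * signCo0 allOne := by group
      _ = g * TwoB.k * g⁻¹ * (g * TwoB.k * g⁻¹ * signCo0 allOne) * signCo0 allOne := by
          rw [← J_comm (g * TwoB.k * g⁻¹)]
      _ = (g * TwoB.k * g⁻¹ * (g * TwoB.k * g⁻¹)) * (signCo0 allOne * signCo0 allOne) := by group
      _ = signCo0 allOne := by rw [h2, J_sq, mul_one]

/-- elements with squares `-1` whose product has square `-1` anticommute -/
theorem anti {u v : Co0} (hu : u * u = signCo0 allOne) (hv : v * v = signCo0 allOne)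
    (huv : u * v * (u * v) = signCo0 allOne) : u * v = signCo0 allOne * (v * u) := by
  have h1 : u * (u * v * (u * v)) * v = u * signCo0 allOne * v := by rw [huv]
  have h2 : u * (u * v * (u * v)) * v = (u * u) * (v * u) * (v * v) := by group
  rw [h2, hu, hv] at h1
  have h3 : signCo0 allOne * (v * u) * signCo0 allOne = v * u := by
    rw [mul_assoc, J_comm, ← mul_assoc, J_sq, one_mul]
  rw [h3, J_comm, mul_assoc] at h1
  rw [h1, ← mul_assoc, J_sq, one_mul]

theorem noCfg_co1 : NoCfg Spor.Co1 := by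
  classical
  intro D x h
  obtain ⟨y, hy⟩ := h.seven
  have h8 := h.e8.card
  obtain ⟨z, hz, hz1⟩ := exists_notMem h8 {1} (by simp)
  rw [Finset.mem_singleton] at hz1
  rcases inv_cases (h.e8.inv z hz) hz1 with hA | hD | hB
  · obtain ⟨c, hc, hcz⟩ := hA
    have hL := KFacts.Co1.InCo1.large hc
    have h1 := (H921.KKL.D2' h hz hcz (N := KFacts.Co1.InCo1.RCo1 c) (LargeExtra.Base.isPGroup hL) (fun n hn => ?_)
      (fun g hg n hn => hL.conj_mem g (mem_centralizer_singleton_iff.1 hg) n hn)).2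
    · rw [KFacts.Co1.YBig.card_R hc] at h1
      omega
    · exact mem_centralizer_singleton_iff.2 (hL.comm_z n hn)
  · obtain ⟨d, hd, hdz⟩ := hD
    have hE : IsPGroup 2 E := IsPGroup.of_card (n := 11) (by rw [card_E]; norm_num)
    have h1 := (H921.KKL.D2' h hz hdz (N := E) hE (fun n hn => ?_) (fun g hg n hn => ?_)).2
    · rw [card_E] at h1
      omega
    · exact mem_centralizer_singleton_iff.2 (comm_of_mem_E hn ⟨d, rfl⟩)
    · exact conj_mem_E (centralizer_dodecad_le d hd hg) hn
  · have hall : ∀ d ∈ D, d ≠ 1 → ∀ t : Co0, mk t = d → t * t = signCo0 allOne := by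
      intro d hd hd1 t ht
      obtain ⟨k, hk⟩ := hy.trans z hz hz1 d hd hd1
      exact sq_of_B (hB.trans (isConj_iff.2 ⟨y ^ k, hk⟩)) ht
    have hanti : ∀ a ∈ D, a ≠ 1 → ∀ b ∈ D, b ≠ 1 → a ≠ b → ∀ u v : Co0, mk u = a → mk v = b →
        u * v = signCo0 allOne * (v * u) := by
      intro a ha ha1 b hb hb1 hab u v hu hv
      refine anti (hall a ha ha1 u hu) (hall b hb hb1 v hv) (hall (a * b) (D.mul_mem ha hb) (fun h0 => hab ?_) _ ?_)
      · have h2 := h.e8.inv b hb
        exact mul_right_cancel (h0.trans h2.symm)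
      · rw [mk_mul, hu, hv]
    obtain ⟨b, hb, hb1⟩ := exists_notMem h8 {1, z} (lt_of_le_of_lt (Finset.card_le_two) (by norm_num))
    obtain ⟨c, hc, hc1⟩ := exists_notMem h8 {1, z, b, z * b} (lt_of_le_of_lt (Finset.card_le_four) (by norm_num))
    simp only [Finset.mem_insert, Finset.mem_singleton, not_or] at hb1 hc1
    obtain ⟨hb1, hbz⟩ := hb1
    obtain ⟨hc1, hcz, hcb, hczb⟩ := hc1
    obtain ⟨u, hu⟩ := exists_mk z
    obtain ⟨v, hv⟩ := exists_mk b
    obtain ⟨w, hw⟩ := exists_mk c
    have hbb := h.e8.inv b hb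
    have hbc : b * c ≠ 1 := fun h0 => hcb (mul_left_cancel (h0.trans hbb.symm))
    have hzbc : z ≠ b * c := by
      intro h0
      apply hczb
      -- z = b c, c = b z = z b
      have h2 : c = b * z := by rw [h0, ← mul_assoc, hbb, one_mul]
      have h3 : (z * b) * (z * b) = 1 := h.e8.inv _ (D.mul_mem hz hb)
      have h4 := h.e8.inv z hz
      have h5 : b * z = z * b := by
        calc b * z = z * z * (b * z) * (b * b) := by rw [h4, hbb]; group
          _ = z * ((z * b) * (z * b)) * b := by group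
          _ = z * b := by rw [h3]; group
      rw [h2, h5]
    have e1 := hanti z hz hz1 b hb hb1 (Ne.symm hbz) u v hu hv
    have e2 := hanti z hz hz1 c hc hc1 (Ne.symm hcz) u w hu hw
    have e3 := hanti z hz hz1 (b * c) (D.mul_mem hb hc) hbc hzbc u (v * w) hu (by rw [mk_mul, hv, hw])
    have e4 : u * (v * w) = v * w * u := by
      calc u * (v * w) = (u * v) * w := by group
        _ = signCo0 allOne * (v * u) * w := by rw [e1]
        _ = signCo0 allOne * v * (u * w) := by group
        _ = signCo0 allOne * v * (signCo0 allOne * (w * u)) := by rw [e2]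
        _ = signCo0 allOne * (v * signCo0 allOne) * (w * u) := by group
        _ = (signCo0 allOne * signCo0 allOne) * (v * w * u) := by rw [J_comm]; group
        _ = v * w * u := by rw [J_sq, one_mul]
    rw [e4] at e3
    have e5 : signCo0 allOne = 1 := by
      have : signCo0 allOne * (v * w * u) = 1 * (v * w * u) := by rw [one_mul]; exact e3.symm
      exact mul_right_cancel this
    exact KFacts.Co1.InCo1.allOne_ne_one e5

/-- **the row `Co1` of S4546** -/
theorem E_Co1 {S : Type u} [Group S] [Finite S] (h : Spor.IsoCo1 S) : NoCfg S := by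
  obtain ⟨e⟩ := h
  exact H610.KKL.A7 e noCfg_co1

end Cfsg.Agent.H264.KKL
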